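import Cfsg.Prelude.Def_Solvable
import Cfsg.Agent.Lib.Char.DegreeOneP
import Cfsg.Agent.Lib.BrauerSuzuki.TwoElements
import Cfsg.Agent.Lib.Transfer.Basic
import Cfsg.Agent.Lib.Transfer.Fusion
import Cfsg.Agent.Lib.TwoGroups.FusionData

/-!
Counting the classes of 2-elements against a Sylow 2-subgroup.
-/

set_option autoImplicit false
set_option linter.style.haveILetI false
set_option linter.unusedSectionVars false

namespace Cfsg.Agent.HalfClasses

open Cfsg

universe u v

/-- The classes of 2-elements. -/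
abbrev TwoClasses (G : Type u) [Group G] :=
  {c : ConjClasses G // ∀ x ∈ c.carrier, ∃ k : ℕ, orderOf x = 2 ^ k}

variable {G : Type u} [Group G] [Finite G]

instance : Finite (TwoClasses G) := by
  haveI : Finite (ConjClasses G) := Finite.of_surjective ConjClasses.mk ConjClasses.mk_surjective
  infer_instance

theorem exists_rep (P : Sylow 2 G) {α : Type v} (f : α → G)
    (hf : ∀ x ∈ (P : Subgroup G), ∃ a, IsConj x (f a)) (c : TwoClasses G) :
    ∃ a, ConjClasses.mk (f a) = c.1 := by
  obtain ⟨x, hx⟩ := ConjClasses.mk_surjective c.1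
  obtain ⟨k, hk⟩ := c.2 x (by rw [ConjClasses.mem_carrier_iff_mk_eq, hx])
  obtain ⟨g, hg⟩ := TwoFus.exists_conj_mem P hk
  obtain ⟨a, ha⟩ := hf _ hg
  refine ⟨a, ?_⟩
  rw [← hx, ConjClasses.mk_eq_mk_iff_isConj]
  exact ((isConj_iff.2 ⟨g, rfl⟩ : IsConj x (g * x * g⁻¹)).trans ha).symm

theorem card_le (P : Sylow 2 G) {α : Type v} [Finite α] (f : α → G)
    (hf : ∀ x ∈ (P : Subgroup G), ∃ a, IsConj x (f a)) : Nat.card (TwoClasses G) ≤ Nat.card α :=
  Nat.card_le_card_of_injective (fun c => (exists_rep P f hf c).choose) fun c d h => Subtype.ext (by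
    rw [← (exists_rep P f hf c).choose_spec, ← (exists_rep P f hf d).choose_spec]
    exact congrArg (fun a => ConjClasses.mk (f a)) h)

theorem rep_injective (P : Sylow 2 G) {α : Type v} [Finite α] (f : α → G)
    (hf : ∀ x ∈ (P : Subgroup G), ∃ a, IsConj x (f a)) (hfP : ∀ a, f a ∈ (P : Subgroup G))
    (hcard : Nat.card α = Nat.card (TwoClasses G)) {a b : α} (h : IsConj (f a) (f b)) : a = b := by
  haveI : Fact (Nat.Prime 2) := ⟨Nat.prime_two⟩
  let φ : α → TwoClasses G := fun a => ⟨ConjClasses.mk (f a), fun x hx => by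
    rw [ConjClasses.mem_carrier_iff_mk_eq, ConjClasses.mk_eq_mk_iff_isConj, isConj_iff] at hx
    obtain ⟨g, hg⟩ := hx
    obtain ⟨k, hk⟩ := IsPGroup.iff_orderOf.1 P.isPGroup' ⟨f a, hfP a⟩
    rw [← Subgroup.orderOf_coe] at hk
    exact ⟨k, by rw [← BrauerSuzuki.orderOf_conj_eq g x, hg]; exact hk⟩⟩
  have hsurj : Function.Surjective φ := fun c => by
    obtain ⟨a, ha⟩ := exists_rep P f hf c
    exact ⟨a, Subtype.ext ha⟩
  have hbij := (Nat.bijective_iff_surjective_and_card φ).2 ⟨hsurj, hcard⟩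
  exact hbij.1 (Subtype.ext (ConjClasses.mk_eq_mk_iff_isConj.2 h))

theorem card_le_classes (P : Sylow 2 G) :
    Nat.card (TwoClasses G) ≤ Nat.card (ConjClasses (P : Subgroup G)) := by
  haveI : Finite (ConjClasses (P : Subgroup G)) := Finite.of_surjective ConjClasses.mk ConjClasses.mk_surjective
  refine card_le P (fun c => ((ConjClasses.mk_surjective c).choose : G)) fun x hx => ?_
  refine ⟨ConjClasses.mk ⟨x, hx⟩, ?_⟩
  have h := (ConjClasses.mk_surjective (ConjClasses.mk (⟨x, hx⟩ : (P : Subgroup G)))).choose_spec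
  exact (MonoidHom.map_isConj (P : Subgroup G).subtype (ConjClasses.mk_eq_mk_iff_isConj.1 h)).symm

theorem classes_of_pgroup (hG : IsPGroup 2 G) : Nat.card (ConjClasses G) = Nat.card (TwoClasses G) := by
  haveI : Fact (Nat.Prime 2) := ⟨Nat.prime_two⟩
  refine (Nat.card_congr (Equiv.subtypeUnivEquiv fun c x _ => ?_)).symm
  exact IsPGroup.iff_orderOf.1 hG x

/-- The number of classes against the number of linear characters. -/
theorem four_mul_classes_le (H : Type u) [Group H] [Finite H] :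
    4 * Nat.card (ConjClasses H) ≤ Nat.card H + 3 * (commutator H).index ∧
      (commutator H ≠ ⊥ → (commutator H).index < Nat.card (ConjClasses H)) := by
  classical
  haveI : Fintype H := Fintype.ofFinite H
  have h1 : ((∑ χ : IrrCharacter H, charDegree (χ : H → ℂ) ^ 2 : ℕ) : ℂ) = (Nat.card H : ℂ) := by
    push_cast
    simp only [← Blocks.irr_one_eq_charDegree]
    exact Char.sum_sq_degree
  rw [Nat.cast_inj] at h1
  have hlin : (Finset.univ.filter fun χ : IrrCharacter H => charDegree (χ : H → ℂ) = 1).card =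
      (commutator H).index := by
    rw [← Char.card_linear, ← Fintype.card_subtype, ← Nat.card_eq_fintype_card]
    refine Nat.card_congr (Equiv.subtypeEquivRight fun χ => ?_)
    rw [Blocks.irr_one_eq_charDegree]
    exact ⟨fun e => by rw [e, Nat.cast_one], fun e => by exact_mod_cast e⟩
  have hk : Fintype.card (IrrCharacter H) = Nat.card (ConjClasses H) := by
    rw [← Nat.card_eq_fintype_card, Char.card_irrCharacter]
  have hpos : ∀ χ : IrrCharacter H, 1 ≤ charDegree (χ : H → ℂ) := fun χ => by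
    refine Nat.one_le_iff_ne_zero.2 fun h0 => Blocks.irr_one_ne_zero χ ?_
    rw [Blocks.irr_one_eq_charDegree, h0, Nat.cast_zero]
  constructor
  · have hsum : ∑ _χ : IrrCharacter H, 4 ≤ ∑ χ : IrrCharacter H,
        (charDegree (χ : H → ℂ) ^ 2 + if charDegree (χ : H → ℂ) = 1 then 3 else 0) := by
      refine Finset.sum_le_sum fun χ _ => ?_
      split_ifs with h
      · rw [h]; norm_num
      · have h2 : 2 ≤ charDegree (χ : H → ℂ) := by have := hpos χ; omega
        nlinarith
    rw [Finset.sum_const, Finset.card_univ, hk, Finset.sum_add_distrib, h1, ← Finset.sum_filter,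
      Finset.sum_const, hlin, smul_eq_mul, smul_eq_mul] at hsum
    omega
  · intro hne
    rw [← hlin, ← hk, ← Finset.card_univ]
    refine Finset.card_lt_card (Finset.filter_ssubset.2 ?_)
    by_contra hall
    push Not at hall
    have h2 : (commutator H).index = Nat.card H := by
      rw [← hlin, ← h1, Finset.filter_true_of_mem fun χ _ => hall χ (Finset.mem_univ _),
        Finset.sum_congr rfl (g := fun _ => 1) fun χ _ => by rw [hall χ (Finset.mem_univ _), one_pow],
        Finset.sum_const, smul_eq_mul, mul_one]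
    have h3 := (commutator H).card_mul_index
    rw [h2] at h3
    exact hne (Subgroup.eq_bot_of_card_eq _ (Nat.eq_of_mul_eq_mul_right Nat.card_pos (h3.trans (one_mul _).symm)))

/-- The number of orbits when all orbits have odd length. -/
theorem orbits_le {H : Type u} [Group H] {α : Type v} [MulAction H α] [Finite α]
    (hodd : ∀ a : α, Odd (Nat.card (MulAction.orbit H a))) :
    3 * Nat.card (MulAction.orbitRel.Quotient H α) ≤ Nat.card α + 2 * Nat.card (MulAction.fixedPoints H α) := by
  classical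
  haveI : Fintype α := Fintype.ofFinite α
  haveI : Finite (MulAction.orbitRel.Quotient H α) := Finite.of_surjective _ Quotient.mk''_surjective
  haveI : Fintype (MulAction.orbitRel.Quotient H α) := Fintype.ofFinite _
  set Ω := MulAction.orbitRel.Quotient H α
  have hsum : Nat.card α = ∑ ω : Ω, Nat.card (MulAction.orbit H ω.out) := by
    rw [Nat.card_congr (MulAction.selfEquivSigmaOrbits H α), Nat.card_sigma]
  have hfix : (Finset.univ.filter fun ω : Ω => Nat.card (MulAction.orbit H ω.out) = 1).card ≤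
      Nat.card (MulAction.fixedPoints H α) := by
    rw [← Fintype.card_subtype, ← Nat.card_eq_fintype_card]
    refine Nat.card_le_card_of_injective (fun ω => ⟨ω.1.out, fun g => ?_⟩) ?_
    · have hs := (Nat.card_eq_one_iff_unique.1 ω.2).1
      exact congrArg Subtype.val (hs.elim (⟨g • ω.1.out, MulAction.mem_orbit _ g⟩ : MulAction.orbit H ω.1.out)
        ⟨ω.1.out, MulAction.mem_orbit_self _⟩)
    · intro ω ω' h
      refine Subtype.ext ?_
      have h' : ω.1.out = ω'.1.out := congrArg Subtype.val h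
      rw [← Quotient.out_eq ω.1, ← Quotient.out_eq ω'.1, h']
  have h3 : ∑ _ω : Ω, 3 ≤ ∑ ω : Ω, (Nat.card (MulAction.orbit H ω.out) +
      if Nat.card (MulAction.orbit H ω.out) = 1 then 2 else 0) := by
    refine Finset.sum_le_sum fun ω _ => ?_
    obtain ⟨j, hj⟩ := hodd ω.out
    split_ifs <;> omega
  rw [Finset.sum_const, Finset.card_univ, ← Nat.card_eq_fintype_card, Finset.sum_add_distrib, ← hsum,
    ← Finset.sum_filter, Finset.sum_const, smul_eq_mul, smul_eq_mul] at h3
  omega

/-- An isolated 2-element is central when the odd core is trivial. -/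
theorem central_of_isolated (hO : pPrimeCore 2 G = ⊥) (P : Sylow 2 G) {x : G} (hx : x ∈ (P : Subgroup G))
    (h : ∀ g : G, g * x * g⁻¹ ∈ (P : Subgroup G) → g * x * g⁻¹ = x) : x ∈ Subgroup.center G := by
  haveI : Fact (Nat.Prime 2) := ⟨Nat.prime_two⟩
  obtain ⟨k, hk⟩ := IsPGroup.iff_orderOf.1 P.isPGroup' ⟨x, hx⟩
  rw [← Subgroup.orderOf_coe] at hk
  have hz := BrauerSuzuki.zStar_two_element G x ⟨k, hk⟩ (BrauerSuzuki.fixed_of_sylow hx h)
  refine Subgroup.mem_center_iff.2 fun g => ?_
  have h1 := hz g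
  rw [hO, Subgroup.mem_bot, mul_inv_eq_one, mul_inv_eq_iff_eq_mul] at h1
  exact h1

theorem center_isPGroup (hO : pPrimeCore 2 G = ⊥) : IsPGroup 2 (Subgroup.center G) := by
  haveI : Fact (Nat.Prime 2) := ⟨Nat.prime_two⟩
  intro z
  obtain ⟨a, b, hab, ha, hb, ⟨i, hi⟩, hbo⟩ := PBasic.exists_pPart_mul (p := 2) (z : G)
  have hbc : b ∈ Subgroup.center G := (Subgroup.zpowers_le.2 z.2) hb
  have hn : (Subgroup.zpowers b).Normal := ⟨fun y hy g => by
    rwa [Subgroup.mem_center_iff.1 ((Subgroup.zpowers_le.2 hbc) hy) g, mul_inv_cancel_right]⟩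
  have hbot : Subgroup.zpowers b ≤ pPrimeCore 2 G :=
    le_sSup ⟨hn, by rw [Nat.card_zpowers]; exact hbo⟩
  rw [hO, le_bot_iff, Subgroup.zpowers_eq_bot] at hbot
  refine ⟨i, Subtype.ext ?_⟩
  show ((z : G) ^ 2 ^ i) = 1
  rw [← hab, hbot, mul_one, ← hi, pow_orderOf_eq_one]

theorem le_sylow_of_central {Z : Subgroup G} (hZ : IsPGroup 2 Z) (hc : Z ≤ Subgroup.center G) (P : Sylow 2 G) :
    Z ≤ (P : Subgroup G) := by
  haveI : Fact (Nat.Prime 2) := ⟨Nat.prime_two⟩
  have hn : (P : Subgroup G) ≤ Subgroup.normalizer (Z : Set G) := fun p _ =>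
    Subgroup.centralizer_le_normalizer _ (Subgroup.mem_centralizer_iff.2 fun z hz =>
      (Subgroup.mem_center_iff.1 (hc hz) p).symm)
  exact fun z hz => (P.is_maximal' (IsPGroup.to_sup_of_normal_right' P.isPGroup' hZ hn) le_sup_left).le
    (Subgroup.mem_sup_right hz)

/-- The odd core stays trivial modulo a central 2-subgroup. -/
theorem core_quotient_bot (hO : pPrimeCore 2 G = ⊥) (Z : Subgroup G) [Z.Normal] (hZ : IsPGroup 2 Z)
    (hc : Z ≤ Subgroup.center G) : pPrimeCore 2 (G ⧸ Z) = ⊥ := by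
  haveI : Fact (Nat.Prime 2) := ⟨Nat.prime_two⟩
  haveI hRn : (pPrimeCore 2 (G ⧸ Z)).Normal := FittingCores.pPrimeCore_normal 2
  set R := pPrimeCore 2 (G ⧸ Z)
  set N := R.comap (QuotientGroup.mk' Z)
  have hNn : N.Normal := hRn.comap _
  have hle : Z ≤ N := fun y hy => by
    show QuotientGroup.mk' Z y ∈ R
    rw [QuotientGroup.mk'_apply, (QuotientGroup.eq_one_iff y).2 hy]
    exact one_mem _
  have hNO : pPrimeCore 2 N = ⊥ := by
    have h1 := FittingCores.pPrimeCore_map_subtype_le 2 hNn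
    rw [hO, le_bot_iff, Subgroup.map_eq_bot_iff_of_injective _ N.subtype_injective] at h1
    exact h1
  set Z' := Z.subgroupOf N
  have hidx : Z'.index = Nat.card R := by
    have h1 := Subgroup.relIndex_ker (QuotientGroup.mk' Z) (K := N)
    rw [QuotientGroup.ker_mk', Subgroup.map_comap_eq_self_of_surjective (QuotientGroup.mk'_surjective Z)] at h1
    exact h1
  have hcop : (Nat.card Z').Coprime Z'.index := by
    obtain ⟨j, hj⟩ := IsPGroup.iff_card.1 (hZ.of_equiv (Subgroup.subgroupOfEquivOfLe hle).symm)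
    rw [hj, hidx]
    exact (FittingCores.pPrimeCore_coprime (G := G ⧸ Z) 2).symm.pow_left j
  obtain ⟨H, hH⟩ := Subgroup.exists_right_complement'_of_coprime hcop
  have hHn : H.Normal := ⟨fun y hy n => by
    obtain ⟨⟨z, h⟩, hzh⟩ := hH.2 n
    simp only at hzh
    have hzc : ∀ w : N, (z : N) * w = w * (z : N) := fun w => Subtype.ext
      (Subgroup.mem_center_iff.1 (hc z.2) (w : G)).symm
    rw [← hzh, show (z : N) * h * y * ((z : N) * h)⁻¹ = (z : N) * (h * y * (h : N)⁻¹) * (z : N)⁻¹ by group,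
      hzc, mul_inv_cancel_right]
    exact mul_mem (mul_mem h.2 hy) (inv_mem h.2)⟩
  have hHb : H = ⊥ := le_bot_iff.1 (hNO ▸ le_sSup (show H ∈ {M : Subgroup N | M.Normal ∧ (Nat.card M).Coprime 2} from
    ⟨hHn, by rw [← hH.symm.index_eq_card, hidx]; exact FittingCores.pPrimeCore_coprime (G := G ⧸ Z) 2⟩))
  refine Subgroup.eq_bot_of_card_eq _ ?_
  rw [← hidx, hH.symm.index_eq_card, hHb, Subgroup.card_bot]

theorem isPGroup_of_central (hO : pPrimeCore 2 G = ⊥) (P : Sylow 2 G)
    (h : Subgroup.normalizer ((P : Subgroup G) : Set G) ≤ Subgroup.centralizer ((P : Subgroup G) : Set G)) :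
    IsPGroup 2 G := by
  haveI : Fact (Nat.Prime 2) := ⟨Nat.prime_two⟩
  have hn := Fusion.hasNormalPComplement_of_normalizer_le_centralizer P h
  exact (PBasic.quotient_pPrimeCore_isPGroup hn).of_equiv
    ((QuotientGroup.quotientMulEquivOfEq hO).trans QuotientGroup.quotientBot)

theorem eq_top_of_pgroup (hG : IsPGroup 2 G) (P : Sylow 2 G) : (P : Subgroup G) = ⊤ :=
  (P.is_maximal' (hG.of_equiv Subgroup.topEquiv.symm) le_top).symm

end Cfsg.Agent.HalfClasses
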