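import Cfsg.Agent.Lib.HalfClasses.Count
import Cfsg.Agent.Lib.Isolated.HSubgroup

/-!
Abelian Sylow 2-subgroups: classes and the fixed part of the normaliser.
-/

set_option autoImplicit false
set_option linter.style.haveILetI false
set_option linter.unusedSectionVars false

namespace Cfsg.Agent.HalfClasses

open Cfsg

universe u

variable {G : Type u} [Group G] [Finite G]

/-- The part of a Sylow subgroup centralised by its normaliser. -/
def fixedPart (P : Sylow 2 G) : Subgroup G :=
  (P : Subgroup G) ⊓ Subgroup.centralizer (Subgroup.normalizer ((P : Subgroup G) : Set G) : Set G)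

theorem abelian_reps (P : Sylow 2 G) [hP : IsMulCommutative (P : Subgroup G)] :
    ∃ (α : Type u) (_ : Finite α) (f : α → G), Function.Injective f ∧ (∀ a, f a ∈ (P : Subgroup G)) ∧
      (∀ x ∈ (P : Subgroup G), ∃ a, ∃ n ∈ Subgroup.normalizer ((P : Subgroup G) : Set G), n * x * n⁻¹ = f a) ∧
      3 * Nat.card α ≤ Nat.card (P : Subgroup G) + 2 * Nat.card (fixedPart P) := by
  classical
  haveI : Fact (Nat.Prime 2) := ⟨Nat.prime_two⟩
  set N := Subgroup.normalizer ((P : Subgroup G) : Set G) with hN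
  letI : MulAction N (P : Subgroup G) :=
    MulAction.compHom _ (Subgroup.normalizerMonoidHom (P : Subgroup G))
  have hsmul : ∀ (n : N) (x : (P : Subgroup G)), ((n • x : (P : Subgroup G)) : G) = n * x * (n : G)⁻¹ :=
    fun n x => rfl
  haveI : Finite (MulAction.orbitRel.Quotient N (P : Subgroup G)) := Finite.of_surjective _ Quotient.mk''_surjective
  refine ⟨MulAction.orbitRel.Quotient N (P : Subgroup G), inferInstance, fun ω => (ω.out : G), fun ω ω' h => ?_,
    fun ω => ω.out.2, fun x hx => ?_, ?_⟩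
  · rw [← Quotient.out_eq ω, ← Quotient.out_eq ω', Subtype.ext h]
  · refine ⟨Quotient.mk'' ⟨x, hx⟩, ?_⟩
    have h : (Quotient.mk'' (⟨x, hx⟩ : (P : Subgroup G)) : MulAction.orbitRel.Quotient N (P : Subgroup G)).out ∈
        MulAction.orbit N (⟨x, hx⟩ : (P : Subgroup G)) := by
      rw [← MulAction.orbitRel_apply]
      exact Quotient.exact' (Quotient.out_eq' _)
    obtain ⟨n, hn⟩ := h
    exact ⟨n, n.2, (hsmul n ⟨x, hx⟩).symm.trans (congrArg Subtype.val hn)⟩
  · refine (orbits_le fun a => ?_).trans (Nat.add_le_add_left (Nat.mul_le_mul_left 2 ?_) _)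
    · rw [Nat.card_coe_set_eq, ← MulAction.index_stabilizer]
      have hle : (P : Subgroup G).subgroupOf N ≤ MulAction.stabilizer N a := fun p hp => by
        rw [MulAction.mem_stabilizer_iff]
        refine Subtype.ext ?_
        have hc := congrArg Subtype.val (hP.1.comm (⟨(p : G), hp⟩ : (P : Subgroup G)) a)
        rw [Subgroup.coe_mul, Subgroup.coe_mul] at hc
        rw [hsmul, hc, mul_inv_cancel_right]
      have h2 : ¬ 2 ∣ ((P : Subgroup G).subgroupOf N).index := fun hd => P.not_dvd_index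
        (hd.trans (Subgroup.relIndex_dvd_index_of_le (Subgroup.le_normalizer : (P : Subgroup G) ≤ N)))
      exact Nat.odd_iff.2 (Nat.two_dvd_ne_zero.1 fun hd => h2 (hd.trans (Subgroup.index_dvd_of_le hle)))
    · refine Nat.card_le_card_of_injective (fun x => (⟨((x.1 : (P : Subgroup G)) : G), x.1.2, ?_⟩ : fixedPart P)) ?_
      · refine Subgroup.mem_centralizer_iff.2 fun n hn => ?_
        have := congrArg Subtype.val (x.2 ⟨n, hn⟩)
        rw [hsmul] at this
        exact mul_inv_eq_iff_eq_mul.1 this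
      · intro x y h
        exact Subtype.ext (Subtype.ext (congrArg Subtype.val h :))

theorem fixedPart_index (P : Sylow 2 G) [hP : IsMulCommutative (P : Subgroup G)]
    (hN : ¬ Subgroup.normalizer ((P : Subgroup G) : Set G) ≤ Subgroup.centralizer ((P : Subgroup G) : Set G)) :
    4 * Nat.card (fixedPart P) ≤ Nat.card (P : Subgroup G) := by
  haveI : Fact (Nat.Prime 2) := ⟨Nat.prime_two⟩
  set N := Subgroup.normalizer ((P : Subgroup G) : Set G) with hNdef
  set F := fixedPart P with hF
  have hFP : F ≤ (P : Subgroup G) := inf_le_left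
  have hne : F ≠ (P : Subgroup G) := fun e => hN fun n hn => Subgroup.mem_centralizer_iff.2 fun x hx => by
    have := Subgroup.mem_centralizer_iff.1 ((e.ge hx : x ∈ F).2) n hn
    exact this.symm
  have hmul : Nat.card F * F.relIndex (P : Subgroup G) = Nat.card (P : Subgroup G) := by
    rw [← Nat.card_congr (Subgroup.subgroupOfEquivOfLe hFP).toEquiv]
    exact Subgroup.card_mul_index _
  obtain ⟨k, hk⟩ := IsPGroup.iff_card.1 P.isPGroup'
  obtain ⟨j, -, hj⟩ := (Nat.dvd_prime_pow Nat.prime_two).1 (hk ▸ Dvd.intro_left _ hmul :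
    F.relIndex (P : Subgroup G) ∣ 2 ^ k)
  rcases j with _ | _ | j
  · exfalso
    rw [pow_zero, Subgroup.relIndex_eq_one] at hj
    exact hne (le_antisymm hFP hj)
  · exfalso
    rw [pow_one] at hj
    refine hN fun n hn => ?_
    obtain ⟨a, b, hab, ha, hb, ⟨i, hai⟩, hbo⟩ := PBasic.exists_pPart_mul (p := 2) n
    have haN : a ∈ N := (Subgroup.zpowers_le.2 hn) ha
    have hbN : b ∈ N := (Subgroup.zpowers_le.2 hn) hb
    have haP : a ∈ (P : Subgroup G) := by
      have hp' : IsPGroup 2 (Subgroup.zpowers a) := IsPGroup.of_card (n := i) (by rw [Nat.card_zpowers, hai])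
      exact (P.is_maximal' (IsPGroup.to_sup_of_normal_right' hp' P.isPGroup' (Subgroup.zpowers_le.2 haN))
        le_sup_right).le (Subgroup.mem_sup_left (Subgroup.mem_zpowers a))
    have hbF : ∀ f ∈ F, b * f * b⁻¹ = f := fun f hf =>
      mul_inv_eq_iff_eq_mul.2 (Subgroup.mem_centralizer_iff.1 hf.2 b hbN)
    rw [← hab]
    refine mul_mem (Subgroup.le_centralizer (P : Subgroup G) haP) (Subgroup.mem_centralizer_iff.2 fun u hu => ?_)
    by_cases huF : u ∈ F
    · exact (Subgroup.mem_centralizer_iff.1 huF.2 b hbN).symm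
    have hbu : b * u * b⁻¹ ∈ (P : Subgroup G) := (Subgroup.mem_normalizer_iff.1 hbN u).1 hu
    have hbuF : b * u * b⁻¹ ∉ F := fun hmem => huF (by
      have := Subgroup.mem_centralizer_iff.1 hmem.2 b hbN
      have e : b * (b * u * b⁻¹) = b * (u : G) := by rw [this]; group
      have e' : b * u * b⁻¹ = u := mul_left_cancel e
      rwa [e'] at hmem)
    have hf : u⁻¹ * (b * u * b⁻¹) ∈ F := by
      have h := (Subgroup.mul_mem_iff_of_index_two (H := F.subgroupOf (P : Subgroup G)) hj
        (a := ⟨u⁻¹, inv_mem hu⟩) (b := ⟨_, hbu⟩)).2 (by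
          rw [Subgroup.mem_subgroupOf, Subgroup.mem_subgroupOf]
          exact iff_of_false (fun h => huF (inv_inv u ▸ inv_mem h)) hbuF)
      exact h
    have hiter : ∀ m : ℕ, b ^ m * u * (b ^ m)⁻¹ = u * (u⁻¹ * (b * u * b⁻¹)) ^ m := by
      intro m
      induction m with
      | zero => simp
      | succ m ih =>
        rw [pow_succ' b m, show b * b ^ m * u * (b * b ^ m)⁻¹ = b * (b ^ m * u * (b ^ m)⁻¹) * b⁻¹ by group, ih,
          pow_succ' (u⁻¹ * (b * u * b⁻¹))]
        calc b * (u * (u⁻¹ * (b * u * b⁻¹)) ^ m) * b⁻¹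
            = (b * u * b⁻¹) * (b * (u⁻¹ * (b * u * b⁻¹)) ^ m * b⁻¹) := by group
          _ = _ := by rw [hbF _ (pow_mem hf m), ← mul_assoc u, mul_inv_cancel_left]
    have h1 := hiter (orderOf b)
    rw [pow_orderOf_eq_one, inv_one, mul_one, one_mul, left_eq_mul] at h1
    obtain ⟨l, hl⟩ := IsPGroup.iff_orderOf.1 P.isPGroup' ⟨_, hFP hf⟩
    rw [← Subgroup.orderOf_coe] at hl
    have h2 : u⁻¹ * (b * u * b⁻¹) = 1 := orderOf_eq_one_iff.1
      (Nat.eq_one_of_dvd_coprimes (hbo.symm.pow_left l) (hl ▸ dvd_rfl) (orderOf_dvd_of_pow_eq_one h1))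
    rw [inv_mul_eq_one, eq_mul_inv_iff_mul_eq] at h2
    exact h2
  · rw [← hmul, hj]
    calc 4 * Nat.card F = Nat.card F * 2 ^ 2 := by ring
      _ ≤ _ := Nat.mul_le_mul_left _ (Nat.pow_le_pow_right two_pos (by omega))

theorem fixedPart_le_center (hO : pPrimeCore 2 G = ⊥) (P : Sylow 2 G) [hP : IsMulCommutative (P : Subgroup G)] :
    fixedPart P = Subgroup.center G := by
  haveI : Fact (Nat.Prime 2) := ⟨Nat.prime_two⟩
  refine le_antisymm (fun u hu => central_of_isolated hO P hu.1 fun g hg => ?_) fun z hz => ?_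
  · obtain ⟨n, hn, he⟩ := Sylow.conj_eq_normalizer_conj_of_mem P u g⁻¹ hu.1 (by rw [inv_inv]; exact hg)
    have h := Subgroup.mem_centralizer_iff.1 hu.2 n hn
    rw [inv_inv] at he
    rw [he, mul_assoc, ← h, inv_mul_cancel_left]
  · exact ⟨le_sylow_of_central (center_isPGroup hO) le_rfl P hz,
      Subgroup.mem_centralizer_iff.2 fun n _ => Subgroup.mem_center_iff.1 hz n⟩

/-- An abelian Sylow 2-subgroup has index four over the centre. -/
theorem abelian_case (hO : pPrimeCore 2 G = ⊥) (P : Sylow 2 G) [hP : IsMulCommutative (P : Subgroup G)]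
    (hk : 2 * Nat.card (TwoClasses G) = Nat.card (P : Subgroup G)) :
    ¬ IsPGroup 2 G ∧ 4 * Nat.card (Subgroup.center G) = Nat.card (P : Subgroup G) := by
  haveI : Fact (Nat.Prime 2) := ⟨Nat.prime_two⟩
  have hnp : ¬ IsPGroup 2 G := by
    intro hG
    have htop := eq_top_of_pgroup hG P
    letI : CommGroup G := { (inferInstance : Group G) with
      mul_comm := fun a b => congrArg Subtype.val (hP.1.comm (⟨a, htop ▸ Subgroup.mem_top a⟩ : (P : Subgroup G))
        ⟨b, htop ▸ Subgroup.mem_top b⟩) }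
    have h1 := classes_of_pgroup hG
    have h2 : Nat.card (ConjClasses G) = Nat.card G := Nat.card_congr ConjClasses.mkEquiv.symm
    rw [htop, Subgroup.card_top, ← h1, h2] at hk
    have := Nat.card_pos (α := G)
    omega
  refine ⟨hnp, ?_⟩
  have h4 := fixedPart_index P fun h => hnp (isPGroup_of_central hO P h)
  obtain ⟨α, _, f, -, -, hf, hα⟩ := abelian_reps P
  have h1 := card_le P f fun x hx => by
    obtain ⟨a, n, -, hn⟩ := hf x hx
    exact ⟨a, isConj_iff.2 ⟨n, hn⟩⟩
  rw [← fixedPart_le_center hO P]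
  omega

end Cfsg.Agent.HalfClasses
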