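import Cfsg.Agent.Lib.HalfClasses.NonAbelian

/-!
The commutator involution is fused: the group is dihedral of order eight over its centre.
-/

set_option autoImplicit false
set_option linter.style.haveILetI false
set_option linter.unusedSectionVars false

namespace Cfsg.Agent.HalfClasses

open Cfsg

universe u

variable {G : Type u} [Group G] [Finite G] {P : Sylow 2 G} {c : G}

theorem CommData.conj_center_eq (d : CommData P c) (hnab : ¬ IsMulCommutative (P : Subgroup G)) {g : G}
    (hg : g * c * g⁻¹ ∈ sylCenter P) : g * c * g⁻¹ = c := by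
  haveI : Fact (Nat.Prime 2) := ⟨Nat.prime_two⟩
  obtain ⟨n, hn, he⟩ := Sylow.conj_eq_normalizer_conj_of_mem_centralizer P c g⁻¹ d.cent.2
    (by rw [inv_inv]; exact hg.2)
  rw [inv_inv] at he
  rw [he]
  obtain ⟨a, ha, b, hb, hab⟩ : ∃ a ∈ (P : Subgroup G), ∃ b ∈ (P : Subgroup G), a * b ≠ b * a := by
    by_contra hall
    push Not at hall
    exact hnab ⟨⟨fun a b => Subtype.ext (hall a a.2 b b.2)⟩⟩
  have e := (d.comm a ha b hb).resolve_left hab
  have hc : ∀ w ∈ (P : Subgroup G), n⁻¹ * w * n ∈ (P : Subgroup G) := fun w hw =>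
    (Subgroup.mem_normalizer_iff''.1 hn w).1 hw
  have e' : n⁻¹ * a * n * (n⁻¹ * b * n) * (n⁻¹ * a * n)⁻¹ = n⁻¹ * b * n * (n⁻¹ * c * n) := by
    calc n⁻¹ * a * n * (n⁻¹ * b * n) * (n⁻¹ * a * n)⁻¹ = n⁻¹ * (a * b * a⁻¹) * n := by group
      _ = n⁻¹ * b * n * (n⁻¹ * c * n) := by rw [e]; group
  rcases d.comm _ (hc a ha) _ (hc b hb) with h | h
  · exfalso
    rw [h, mul_inv_cancel_right, left_eq_mul] at e'
    refine d.ne ?_
    calc c = n * (n⁻¹ * c * n) * n⁻¹ := by group
      _ = 1 := by rw [e']; group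
  · exact (mul_left_cancel (h.symm.trans e')).symm

theorem CommData.centralizer_index (d : CommData P c) {w : G} (hw : w ∈ (P : Subgroup G)) (hwZ : w ∉ sylCenter P) :
    2 * Nat.card ↥((P : Subgroup G) ⊓ Subgroup.centralizer ({w} : Set G)) = Nat.card (P : Subgroup G) := by
  obtain ⟨s, hs, hne⟩ : ∃ s ∈ (P : Subgroup G), s * w ≠ w * s := by
    by_contra hall
    push Not at hall
    exact hwZ (mem_sylCenter.2 ⟨hw, hall⟩)
  have e := (d.comm s hs w hw).resolve_left hne
  have hcs := (mem_sylCenter.1 d.cent).2 s hs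
  set M := (P : Subgroup G) ⊓ Subgroup.centralizer ({w} : Set G)
  have hmem : ∀ p : (P : Subgroup G), p ∈ M.subgroupOf (P : Subgroup G) ↔ (p : G) * w = w * p := fun p =>
    ⟨fun h => Subgroup.mem_centralizer_singleton_iff.1 h.2,
      fun h => ⟨p.2, Subgroup.mem_centralizer_singleton_iff.2 h⟩⟩
  have hidx : (M.subgroupOf (P : Subgroup G)).index = 2 := by
    rw [Subgroup.index_eq_two_iff]
    refine ⟨⟨s, hs⟩, fun p => ?_⟩
    rw [hmem, hmem]
    rcases d.comm p p.2 w hw with h | h
    · refine Or.inr ⟨h, fun h' => hne ?_⟩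
      have h'' : (p : G) * s * w = w * (p * s) := h'
      rw [← mul_assoc w, ← h, mul_assoc, mul_assoc] at h''
      exact mul_left_cancel h''
    · refine Or.inl ⟨?_, fun h' => d.ne ?_⟩
      · show (p : G) * s * w = w * (p * s)
        have hcp := (mem_sylCenter.1 d.cent).2 (p : G) p.2
        have hp' : (p : G) * w = w * c * p := mul_inv_eq_iff_eq_mul.1 h
        have hs' : s * w = w * c * s := mul_inv_eq_iff_eq_mul.1 e
        rw [mul_assoc, hs', ← mul_assoc, ← mul_assoc, hp', mul_assoc (w * c) (p : G) c, hcp, ← mul_assoc,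
          mul_assoc w c c, d.sq, mul_one, mul_assoc]
      · rw [h', mul_inv_cancel_right, left_eq_mul] at h
        exact h
  rw [← Nat.card_congr (Subgroup.subgroupOfEquivOfLe (inf_le_left : M ≤ (P : Subgroup G))).toEquiv,
    ← (M.subgroupOf (P : Subgroup G)).card_mul_index, hidx, mul_comm]

/-- What is used about the quotient by the centre. -/
structure OverCenter (P : Sylow 2 G) (c x a b : G) : Prop where
  card : 8 * Nat.card (Subgroup.center G) = Nat.card (P : Subgroup G)
  xP : x ∈ (P : Subgroup G)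
  aP : a ∈ (P : Subgroup G)
  xx : x * x = 1
  aa : a * a * c⁻¹ ∈ Subgroup.center G
  conj : x * a * x⁻¹ = a * c
  bb : b * b ∈ Subgroup.center G
  bP : b ∈ (P : Subgroup G)
  bne : b ∉ Subgroup.center G
  cne : c ∉ Subgroup.center G
  fusion : ∀ z ∈ Subgroup.center G, ¬ IsConj b (z * c)

theorem CommData.overCenter (d : CommData P c) (hO : pPrimeCore 2 G = ⊥) (hnab : ¬ IsMulCommutative (P : Subgroup G))
    (hk : 2 * Nat.card (TwoClasses G) = Nat.card (P : Subgroup G)) : ∃ x a b, OverCenter P c x a b := by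
  classical
  haveI : Fact (Nat.Prime 2) := ⟨Nat.prime_two⟩
  have hcz := d.not_central hO hnab hk
  obtain ⟨g₀, hg₀, hne₀⟩ : ∃ g, g * c * g⁻¹ ∈ (P : Subgroup G) ∧ g * c * g⁻¹ ≠ c := by
    by_contra hall
    push Not at hall
    exact hcz (central_of_isolated hO P d.memP hall)
  set x := g₀ * c * g₀⁻¹ with hxdef
  have hxP : x ∈ (P : Subgroup G) := hg₀
  have hxZ : x ∉ sylCenter P := fun h => hne₀ (d.conj_center_eq hnab h)
  -- the centraliser of `x` in `P` goes into `P`
  obtain ⟨g, hgx, hgM⟩ : ∃ g, g * c * g⁻¹ = x ∧ ∀ m ∈ (P : Subgroup G), m * x = x * m → g⁻¹ * m * g ∈ (P : Subgroup G) := by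
    set C := Subgroup.centralizer ({x} : Set G) with hC
    set M := (P : Subgroup G) ⊓ C with hM
    let T₀ : Sylow 2 G := g₀ • P
    have hT₀ : ∀ y, y ∈ (T₀ : Subgroup G) ↔ g₀⁻¹ * y * g₀ ∈ (P : Subgroup G) := fun y => by
      show y ∈ ((g₀ • P : Sylow 2 G) : Subgroup G) ↔ _
      rw [Sylow.smul_def, Sylow.pointwise_smul_def, Subgroup.mem_pointwise_smul_iff_inv_smul_mem,
        ← map_inv, MulAut.smul_def, MulAut.conj_apply, inv_inv]
    have hT₀C : (T₀ : Subgroup G) ≤ C := fun y hy => by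
      rw [hC, Subgroup.mem_centralizer_singleton_iff, hxdef]
      have h := (mem_sylCenter.1 d.cent).2 _ ((hT₀ y).1 hy)
      calc y * (g₀ * c * g₀⁻¹) = g₀ * (g₀⁻¹ * y * g₀ * c) * g₀⁻¹ := by group
        _ = g₀ * (c * (g₀⁻¹ * y * g₀)) * g₀⁻¹ := by rw [h]
        _ = g₀ * c * g₀⁻¹ * y := by group
    let T : Sylow 2 C := T₀.subtype hT₀C
    obtain ⟨T', hT'⟩ := ((P.isPGroup'.to_le (inf_le_left : M ≤ _)).of_equiv
      (Subgroup.subgroupOfEquivOfLe (inf_le_right : M ≤ C)).symm).exists_le_sylow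
    obtain ⟨h, hh⟩ := MulAction.exists_smul_eq C T' T
    have hhx : (h : G) * x = x * (h : G) := Subgroup.mem_centralizer_singleton_iff.1 h.2
    refine ⟨(h : G)⁻¹ * g₀, ?_, fun m hm hmx => ?_⟩
    · calc (h : G)⁻¹ * g₀ * c * ((h : G)⁻¹ * g₀)⁻¹ = (h : G)⁻¹ * (g₀ * c * g₀⁻¹) * h := by group
        _ = x := by rw [← hxdef, mul_assoc, ← hhx, inv_mul_cancel_left]
    · have hmT : (⟨m, Subgroup.mem_centralizer_singleton_iff.2 hmx⟩ : C) ∈ (T' : Subgroup C) :=
        hT' (show m ∈ M from ⟨hm, Subgroup.mem_centralizer_singleton_iff.2 hmx⟩)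
      have h1 : h * ⟨m, Subgroup.mem_centralizer_singleton_iff.2 hmx⟩ * h⁻¹ ∈ (T : Subgroup C) := by
        rw [← hh, Sylow.coe_subgroup_smul]
        exact Subgroup.smul_mem_pointwise_smul _ (MulAut.conj h) _ hmT
      have h2 : (h : G) * m * (h : G)⁻¹ ∈ (T₀ : Subgroup G) := h1
      rw [hT₀] at h2
      convert h2 using 1
      group
  have hxne : x ≠ c := hne₀
  have hx2 : x * x = 1 := by
    rw [hxdef, show g₀ * c * g₀⁻¹ * (g₀ * c * g₀⁻¹) = g₀ * (c * c) * g₀⁻¹ by group, d.sq, mul_one, mul_inv_cancel]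
  have hcZ := (mem_sylCenter.1 d.cent).2
  set φ : G → G := fun m => g⁻¹ * m * g with hφ
  have hφmul : ∀ m m', φ (m * m') = φ m * φ m' := fun m m' => by simp only [hφ]; group
  have hφx : φ x = c := by simp only [hφ]; rw [← hgx]; group
  have hcx : c * x = x * c := (hcZ x hxP).symm
  set y := φ c with hy
  have hyP : y ∈ (P : Subgroup G) := hgM c d.memP hcx
  have hyne : y ≠ c := fun h => hxne (by
    have : φ c = φ x := h.trans hφx.symm
    simp only [hφ] at this
    exact (mul_left_cancel (mul_right_cancel this)).symm)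
  have hyZ : y ∉ sylCenter P := fun h => hyne (by
    have h1 := d.conj_center_eq hnab (g := g⁻¹) (by rw [inv_inv]; exact h)
    rwa [inv_inv] at h1)
  have habel : ∀ m ∈ (P : Subgroup G), m * x = x * m → ∀ m' ∈ (P : Subgroup G), m' * x = x * m' → m * m' = m' * m := by
    intro m hm hmx m' hm' hmx'
    by_contra hne
    have e := (d.comm m hm m' hm').resolve_left hne
    have e' : φ m * φ m' * (φ m)⁻¹ = φ m' * y := by
      simp only [hy, hφ]
      calc g⁻¹ * m * g * (g⁻¹ * m' * g) * (g⁻¹ * m * g)⁻¹ = g⁻¹ * (m * m' * m⁻¹) * g := by group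
        _ = _ := by rw [e]; group
    rcases d.comm _ (hgM m hm hmx) _ (hgM m' hm' hmx') with h | h
    · change φ m * φ m' = φ m' * φ m at h
      rw [h, mul_inv_cancel_right, left_eq_mul] at e'
      refine d.ne ?_
      calc c = g * y * g⁻¹ := by simp only [hy, hφ]; group
        _ = 1 := by rw [e']; group
    · exact hyne (mul_left_cancel (e'.symm.trans h))
  obtain ⟨s, hs, hsne⟩ : ∃ s ∈ (P : Subgroup G), s * x ≠ x * s := by
    by_contra hall
    push Not at hall
    exact hxZ (mem_sylCenter.2 ⟨hxP, hall⟩)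
  have hsx : s * x = x * c * s := mul_inv_eq_iff_eq_mul.1 ((d.comm s hs x hxP).resolve_left hsne)
  have hxs : x * s * x⁻¹ = s * c := (d.comm x hxP s hs).resolve_left fun h => hsne h.symm
  have hsplit : ∀ p ∈ (P : Subgroup G), p * x = x * p ∨ ∃ m ∈ (P : Subgroup G), m * x = x * m ∧ p = s * m := by
    intro p hp
    rcases d.comm p hp x hxP with h | h
    · exact Or.inl h
    · refine Or.inr ⟨s⁻¹ * p, mul_mem (inv_mem hs) hp, ?_, (mul_inv_cancel_left s p).symm⟩
      rw [mul_assoc, mul_inv_eq_iff_eq_mul.1 h, ← mul_assoc, ← mul_assoc x]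
      have : s⁻¹ * (x * c) = x * s⁻¹ := by
        rw [inv_mul_eq_iff_eq_mul, ← mul_assoc, hsx, mul_inv_cancel_right]
      rw [this, mul_assoc]
  have hinZ : ∀ m ∈ (P : Subgroup G), m * x = x * m → s * m = m * s → m ∈ sylCenter P := by
    intro m hm hmx hms
    refine mem_sylCenter.2 ⟨hm, fun p hp => ?_⟩
    rcases hsplit p hp with h | ⟨m', hm', hmx', rfl⟩
    · exact habel p hp h m hm hmx
    · rw [mul_assoc, habel m' hm' hmx' m hm hmx, ← mul_assoc, hms, mul_assoc]
  have hM : ∀ m ∈ (P : Subgroup G), m * x = x * m → m ∈ sylCenter P ∨ m * x ∈ sylCenter P := by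
    intro m hm hmx
    rcases d.comm s hs m hm with h | h
    · exact Or.inl (hinZ m hm hmx h)
    · refine Or.inr (hinZ _ (mul_mem hm hxP) (by rw [hmx, mul_assoc, hmx]) ?_)
      rw [← mul_assoc, mul_inv_eq_iff_eq_mul.1 h, mul_assoc (m * c), hsx, ← mul_assoc, ← mul_assoc,
        mul_assoc (m * c) x c, ← hcx, ← mul_assoc, mul_assoc m c c, d.sq, mul_one]
  -- the other side
  obtain ⟨q, hq, hqne⟩ : ∃ q ∈ (P : Subgroup G), q * y ≠ y * q := by
    by_contra hall
    push Not at hall
    exact hyZ (mem_sylCenter.2 ⟨hyP, hall⟩)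
  have hqy : q * y * q⁻¹ = y * c := (d.comm q hq y hyP).resolve_left hqne
  have hsurj : ∀ p ∈ (P : Subgroup G), p * y = y * p → ∃ m ∈ (P : Subgroup G), m * x = x * m ∧ φ m = p := by
    intro p hp hpy
    let F : ↥((P : Subgroup G) ⊓ Subgroup.centralizer ({x} : Set G)) →
        ↥((P : Subgroup G) ⊓ Subgroup.centralizer ({y} : Set G)) := fun m =>
      ⟨φ m, hgM m m.2.1 (Subgroup.mem_centralizer_singleton_iff.1 m.2.2), Subgroup.mem_centralizer_singleton_iff.2 (by
        rw [hy, ← hφmul, ← hφmul, habel m m.2.1 (Subgroup.mem_centralizer_singleton_iff.1 m.2.2) c d.memP hcx])⟩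
    have hFinj : Function.Injective F := fun a b h => Subtype.ext
      (mul_left_cancel (mul_right_cancel (congrArg Subtype.val h : φ a = φ b)))
    have hbij := (Nat.bijective_iff_injective_and_card F).2 ⟨hFinj, by
      have h1 := d.centralizer_index hxP hxZ
      have h2 := d.centralizer_index hyP hyZ
      omega⟩
    obtain ⟨m, hm⟩ := hbij.2 ⟨p, hp, Subgroup.mem_centralizer_singleton_iff.2 hpy⟩
    exact ⟨m, m.2.1, Subgroup.mem_centralizer_singleton_iff.1 m.2.2, congrArg Subtype.val hm⟩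
  set q' := g * q * g⁻¹ with hq'
  have hq'c : q' * c * q'⁻¹ = c * x := by
    calc q' * c * q'⁻¹ = g * (q * y * q⁻¹) * g⁻¹ := by simp only [hy, hφ, hq']; group
      _ = g * (y * c) * g⁻¹ := by rw [hqy]
      _ = c * (g * c * g⁻¹) := by simp only [hy, hφ]; group
      _ = c * x := by rw [hgx]
  set C : Subgroup G := sylCenter P ⊓ (sylCenter P).map (MulAut.conj g).toMonoidHom with hCdef
  have hCmem : ∀ z, z ∈ C ↔ z ∈ sylCenter P ∧ φ z ∈ sylCenter P := fun z => by
    refine ⟨fun h => ⟨h.1, ?_⟩, fun h => ⟨h.1, φ z, h.2, ?_⟩⟩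
    · obtain ⟨w, hw, e⟩ := h.2
      rw [← e]
      show g⁻¹ * (g * w * g⁻¹) * g ∈ sylCenter P
      rwa [show g⁻¹ * (g * w * g⁻¹) * g = w by group]
    · show g * (g⁻¹ * z * g) * g⁻¹ = z
      group
  have hcC : c ∉ C := fun h => hyZ ((hCmem c).1 h).2
  have hZC : ∀ z ∈ sylCenter P, z ∈ C ∨ z * c ∈ C := by
    intro z hz
    obtain ⟨hzP, hzc⟩ := mem_sylCenter.1 hz
    have hzx : z * x = x * z := (hzc x hxP).symm
    have key : ∀ w ∈ (P : Subgroup G), w * x = x * w → q * φ w = φ w * q → φ w ∈ sylCenter P := by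
      intro w hw hwx hqw
      refine mem_sylCenter.2 ⟨hgM w hw hwx, fun p hp => ?_⟩
      have hcomm : ∀ p ∈ (P : Subgroup G), p * y = y * p → p * φ w = φ w * p := by
        intro p hp hpy
        obtain ⟨m, hm, hmx, rfl⟩ := hsurj p hp hpy
        rw [← hφmul, ← hφmul, habel m hm hmx w hw hwx]
      rcases d.comm p hp y hyP with h | h
      · exact hcomm p hp h
      · have hy' : (q⁻¹ * p) * y = y * (q⁻¹ * p) := by
          have h' : p * y * p⁻¹ = q * y * q⁻¹ := h.trans hqy.symm
          calc q⁻¹ * p * y = q⁻¹ * (p * y * p⁻¹) * p := by group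
            _ = y * (q⁻¹ * p) := by rw [h']; group
        have h1 := hcomm _ (mul_mem (inv_mem hq) hp) hy'
        calc p * φ w = q * (q⁻¹ * p * φ w) := by group
          _ = q * φ w * (q⁻¹ * p) := by rw [h1, ← mul_assoc]
          _ = φ w * p := by rw [hqw]; group
    rcases d.comm q hq (φ z) (hgM z hzP hzx) with h | h
    · exact Or.inl ((hCmem z).2 ⟨hz, key z hzP hzx h⟩)
    · refine Or.inr ((hCmem _).2 ⟨mul_mem hz d.cent, key _ (mul_mem hzP d.memP) (by
        rw [mul_assoc, hcx, ← mul_assoc, hzx, mul_assoc]) ?_⟩)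
      rw [hφmul, ← hy, ← mul_assoc, mul_inv_eq_iff_eq_mul.1 h, mul_assoc (φ z * c), mul_inv_eq_iff_eq_mul.1 hqy,
        ← mul_assoc, ← mul_assoc, mul_assoc (φ z * c) y c, mul_assoc (φ z) c, ← mul_assoc c y c, ← hcZ y hyP,
        mul_assoc y c c, d.sq, mul_one]
  -- representatives
  let f : ↥C × Bool × Bool → G := fun w => match w.2 with
    | (false, false) => w.1
    | (true, false) => w.1 * c
    | (false, true) => w.1 * s
    | (true, true) => w.1 * (x * s)
  have hfP : ∀ w, f w ∈ (P : Subgroup G) := fun w => by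
    have h0 : (w.1 : G) ∈ (P : Subgroup G) := w.1.2.1.1
    rcases w with ⟨u, i, j⟩
    cases i <;> cases j
    · exact h0
    · exact mul_mem h0 hs
    · exact mul_mem h0 d.memP
    · exact mul_mem h0 (mul_mem hxP hs)
  have hCcomm : ∀ u ∈ C, ∀ p ∈ (P : Subgroup G), p * u = u * p := fun u hu => (mem_sylCenter.1 hu.1).2
  have hconjx : ∀ u ∈ C, ∀ w : G, x * (u * w) * x⁻¹ = u * (x * w * x⁻¹) := fun u hu w => by
    rw [← mul_assoc x u w, hCcomm u hu x hxP]; group
  have hcov : ∀ v ∈ (P : Subgroup G), ∃ w, IsConj v (f w) ∧ (w.2 = (false, false) → v = w.1) := by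
    intro v hv
    have hMcase : ∀ m ∈ (P : Subgroup G), m * x = x * m →
        ∃ u ∈ C, m = u ∨ m = u * c ∨ m = u * x ∨ m = u * (c * x) := by
      intro m hm hmx
      rcases hM m hm hmx with h | h
      · rcases hZC m h with h' | h'
        · exact ⟨m, h', Or.inl rfl⟩
        · exact ⟨m * c, h', Or.inr (Or.inl (by rw [mul_assoc, d.sq, mul_one]))⟩
      · rcases hZC _ h with h' | h'
        · exact ⟨m * x, h', Or.inr (Or.inr (Or.inl (by rw [mul_assoc, hx2, mul_one])))⟩
        · exact ⟨m * x * c, h', Or.inr (Or.inr (Or.inr (by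
            rw [mul_assoc (m * x) c, ← mul_assoc c c x, d.sq, one_mul, mul_assoc, hx2, mul_one])))⟩
    have hxc : ∀ u ∈ C, IsConj (u * (c * x)) (u * c) := fun u hu => (isConj_iff.2 ⟨q', by
      have hu' : q' * u * q'⁻¹ = u := by
        calc q' * u * q'⁻¹ = g * (q * φ u * q⁻¹) * g⁻¹ := by simp only [hφ, hq']; group
          _ = g * φ u * g⁻¹ := by rw [(mem_sylCenter.1 ((hCmem u).1 hu).2).2 q hq, mul_inv_cancel_right]
          _ = u := by simp only [hφ]; group
      calc q' * (u * c) * q'⁻¹ = (q' * u * q'⁻¹) * (q' * c * q'⁻¹) := by group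
        _ = u * (c * x) := by rw [hu', hq'c]⟩ : IsConj (u * c) (u * (c * x))).symm
    have hus : ∀ u ∈ C, s * u = u * s := fun u hu => hCcomm u hu s hs
    rcases hsplit v hv with hvx | ⟨m, hm, hmx, rfl⟩
    · obtain ⟨u, hu, rfl | rfl | rfl | rfl⟩ := hMcase v hv hvx
      · exact ⟨(⟨_, hu⟩, false, false), IsConj.refl _, fun _ => rfl⟩
      · exact ⟨(⟨_, hu⟩, true, false), IsConj.refl _, fun h => by simp at h⟩
      · refine ⟨(⟨_, hu⟩, true, false), IsConj.trans (isConj_iff.2 ⟨s, ?_⟩) (hxc u hu), fun h => by simp at h⟩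
        rw [← mul_assoc, hus u hu, mul_assoc u s x, hsx, hcx]; group
      · exact ⟨(⟨_, hu⟩, true, false), hxc u hu, fun h => by simp at h⟩
    · obtain ⟨u, hu, rfl | rfl | rfl | rfl⟩ := hMcase m hm hmx
      · refine ⟨(⟨_, hu⟩, false, true), ?_, fun h => by simp at h⟩
        show IsConj (s * m) (m * s)
        rw [hus m hu]
      · refine ⟨(⟨_, hu⟩, false, true), ?_, fun h => by simp at h⟩
        show IsConj (s * (u * c)) (u * s)
        refine (isConj_iff.2 ⟨x, ?_⟩ : IsConj (u * s) (s * (u * c))).symm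
        rw [hconjx u hu, hxs, ← mul_assoc s, hus u hu, mul_assoc]
      · refine ⟨(⟨_, hu⟩, true, true), ?_, fun h => by simp at h⟩
        show IsConj (s * (u * x)) (u * (x * s))
        refine (isConj_iff.2 ⟨x, ?_⟩ : IsConj (u * (x * s)) (s * (u * x))).symm
        rw [hconjx u hu, show x * (x * s) * x⁻¹ = x * (x * s * x⁻¹) by group, hxs, ← mul_assoc s, hus u hu,
          mul_assoc u s x, hsx, mul_assoc x c s, ← hcZ s hs]
      · refine ⟨(⟨_, hu⟩, true, true), ?_, fun h => by simp at h⟩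
        show IsConj (s * (u * (c * x))) (u * (x * s))
        rw [← mul_assoc s, hus u hu, mul_assoc u s, hcx, ← mul_assoc s, hsx, mul_assoc (x * c) s c, hcZ s hs,
          ← mul_assoc (x * c) c s, mul_assoc x c c, d.sq, mul_one]
  have hcard : 8 * Nat.card C ≤ Nat.card (P : Subgroup G) := by
    have h1 : Nat.card (↥C × Bool) ≤ Nat.card (sylCenter P) := by
      refine Nat.card_le_card_of_injective (fun w => (⟨if w.2 then w.1 * c else w.1, by
        split_ifs <;> [exact mul_mem w.1.2.1 d.cent; exact w.1.2.1]⟩ : sylCenter P)) ?_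
      rintro ⟨u, i⟩ ⟨u', i'⟩ h
      have h' : (if i then (u : G) * c else u) = if i' then (u' : G) * c else u' := congrArg Subtype.val h
      cases i <;> cases i'
      · exact Prod.ext (Subtype.ext h') rfl
      · exact absurd (by rw [show c = (u' : G)⁻¹ * u by rw [show (u : G) = u' * c from h', inv_mul_cancel_left]]
                         exact mul_mem (inv_mem u'.2) u.2) hcC
      · exact absurd (by rw [show c = (u : G)⁻¹ * u' by rw [show (u' : G) = u * c from h'.symm, inv_mul_cancel_left]]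
                         exact mul_mem (inv_mem u.2) u'.2) hcC
      · exact Prod.ext (Subtype.ext (mul_right_cancel (h' : (u : G) * c = u' * c))) rfl
    rw [Nat.card_prod, show Nat.card Bool = 2 by simp] at h1
    have := d.four_mul_center_le hnab
    omega
  have hcov' : ∀ v ∈ (P : Subgroup G), ∃ w, IsConj v (f w) := fun v hv => (hcov v hv).imp fun _ h => h.1
  have hα : Nat.card (↥C × Bool × Bool) = 4 * Nat.card C := by
    rw [Nat.card_prod, Nat.card_prod, show Nat.card Bool = 2 by simp]; ring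
  have hle := card_le P f hcov'
  have hinj : ∀ {v w}, IsConj (f v) (f w) → v = w := fun h =>
    rep_injective P f hcov' hfP (by omega) h
  have hCc : C = Subgroup.center G := by
    refine le_antisymm (fun u hu => ?_) fun z hz => ?_
    · refine central_of_isolated hO P hu.1.1 fun h hh => ?_
      obtain ⟨w, hw, hww⟩ := hcov _ hh
      have e : ((⟨u, hu⟩, false, false) : ↥C × Bool × Bool) = w :=
        hinj ((isConj_iff.2 ⟨h, rfl⟩ : IsConj u (h * u * h⁻¹)).trans hw)
      subst e
      exact hww rfl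
    · have hzP := le_sylow_of_central (center_isPGroup hO) le_rfl P hz
      have hzZ : z ∈ sylCenter P := mem_sylCenter.2 ⟨hzP, fun p _ => Subgroup.mem_center_iff.1 hz p⟩
      refine (hCmem z).2 ⟨hzZ, ?_⟩
      show g⁻¹ * z * g ∈ sylCenter P
      rwa [Subgroup.mem_center_iff.1 hz, inv_mul_cancel_right]
  have hne' : ∀ (i : Bool) (z : G), z ∈ Subgroup.center G →
      ¬ IsConj (if i then x * s else s) (z * c) := by
    intro i z hz h
    have e := hinj (v := (⟨1, C.one_mem⟩, i, true)) (w := (⟨z, hCc ▸ hz⟩, true, false)) (by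
      cases i <;> simpa [f] using h)
    simp at e
  have hsnot : ∀ i : Bool, (if i then x * s else s) ∉ Subgroup.center G := by
    intro i h
    have hcomm := Subgroup.mem_center_iff.1 h x
    cases i
    · exact hsne hcomm.symm
    · simp only [if_true, mul_assoc] at hcomm
      exact hsne (mul_left_cancel hcomm).symm
  have hss : s * s ∈ sylCenter P := hinZ _ (mul_mem hs hs) (by
    rw [mul_assoc, hsx, ← mul_assoc, ← mul_assoc, hsx, mul_assoc (x * c) s c, hcZ s hs, ← mul_assoc,
      mul_assoc x c c, d.sq, mul_one, mul_assoc]) (by rw [mul_assoc])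
  have hxsxs : x * s * (x * s) = c * (s * s) := by
    rw [mul_assoc, ← mul_assoc s x, hsx, ← mul_assoc, ← mul_assoc, ← mul_assoc, hx2, one_mul, mul_assoc]
  have hconjxs : x * (x * s) * x⁻¹ = x * s * c := by
    rw [show x * (x * s) * x⁻¹ = x * (x * s * x⁻¹) by group, hxs, ← mul_assoc]
  have h8 : 8 * Nat.card (Subgroup.center G) = Nat.card (P : Subgroup G) := by rw [← hCc]; omega
  rcases hZC _ hss with h | h
  · refine ⟨x, x * s, s, h8, hxP, mul_mem hxP hs, hx2, ?_, hconjxs, hCc ▸ h, hs, hsnot false, hcz, hne' false⟩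
    rw [hxsxs, hcZ (s * s) (mul_mem hs hs) |>.symm, mul_inv_cancel_right]
    exact hCc ▸ h
  · refine ⟨x, s, x * s, h8, hxP, hs, hx2, ?_, hxs, ?_, mul_mem hxP hs, hsnot true, hcz, hne' true⟩
    · rw [← hCc, show c⁻¹ = c from inv_eq_of_mul_eq_one_right d.sq]
      exact h
    · rw [← hCc, hxsxs, ← hcZ (s * s) (mul_mem hs hs)]
      exact h

end Cfsg.Agent.HalfClasses
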