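import Cfsg.Agent.Lib.GW.Consequences
import Cfsg.Agent.Lib.BSW.Dihedral
import Cfsg.Agent.Lib.Classical.FourGroup
import Cfsg.Agent.Lib.Classical.DicksonProper

/-!
The shape of a core-free group with a small dihedral Sylow 2-subgroup and two classes of involutions.
-/

set_option autoImplicit false
set_option linter.style.haveILetI false
set_option linter.unusedSectionVars false

namespace Cfsg.Agent.HalfClasses

universe u

/-- The conclusion. -/
def Concl (X : Type u) [Group X] : Prop :=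
  Nonempty (X ≃* ↥(alternatingGroup (Fin 4))) ∨ Nonempty (X ≃* Equiv.Perm (Fin 4)) ∨
    ∃ S : Subgroup X, S.Normal ∧ IsSimpleGroup ↥S ∧ ¬ IsMulCommutative ↥S ∧
      Subgroup.centralizer (S : Set X) = ⊥ ∧
      ∃ (F : Type) (_ : Field F) (_ : Fintype F), 3 < Fintype.card F ∧ (Fintype.card F % 8 = 3 ∨ Fintype.card F % 8 = 5) ∧
        Nonempty (↥S ≃* Matrix.ProjectiveSpecialLinearGroup (Fin 2) F)

theorem mod_eight_of_psl {F : Type} [Field F] [Fintype F] (hodd : Odd (Fintype.card F))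
    (h8 : ¬ 8 ∣ Nat.card (Matrix.ProjectiveSpecialLinearGroup (Fin 2) F)) :
    Fintype.card F % 8 = 3 ∨ Fintype.card F % 8 = 5 := by
  classical
  have hgcd := Dickson.gcd_mul_card_psl (K := F)
  rw [Nat.card_eq_fintype_card (α := F)] at hgcd
  set q := Fintype.card F with hq
  obtain ⟨r, hr⟩ := hodd
  set c := Nat.card (Matrix.ProjectiveSpecialLinearGroup (Fin 2) F)
  have hg : Nat.gcd 2 (q - 1) = 2 := Nat.gcd_eq_left ⟨r, by omega⟩
  rw [hg] at hgcd
  by_contra hcon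
  have hmod : q % 8 = 1 ∨ q % 8 = 7 := by omega
  have hsq : 16 ∣ q ^ 2 - 1 := by
    rcases hmod with e | e
    · obtain ⟨j, hj⟩ : ∃ j, q = 8 * j + 1 := ⟨q / 8, by omega⟩
      exact ⟨4 * j * j + j, by
        rw [hj, show (8 * j + 1) ^ 2 = 16 * (4 * j * j + j) + 1 by ring, Nat.add_sub_cancel]⟩
    · obtain ⟨j, hj⟩ : ∃ j, q = 8 * j + 7 := ⟨q / 8, by omega⟩
      exact ⟨4 * j * j + 7 * j + 3, by
        rw [hj, show (8 * j + 7) ^ 2 = 16 * (4 * j * j + 7 * j + 3) + 1 by ring, Nat.add_sub_cancel]⟩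
  have h16 : 2 * 8 ∣ 2 * c := by rw [hgcd]; exact hsq.mul_left q
  exact h8 ((Nat.mul_dvd_mul_iff_left two_pos).1 h16)

theorem concl_of_dihedral (hGW : GW.SimpleDihedral.{u}) {X : Type u} [Group X] [Finite X]
    (hO : Cfsg.pPrimeCore 2 X = ⊥) (hnp : ¬ IsPGroup 2 X) (h : GW.DihSylow X) (h16 : ¬ 16 ∣ Nat.card X)
    (h2 : 8 ∣ Nat.card X → ∃ u v : X, orderOf u = 2 ∧ orderOf v = 2 ∧ ¬ IsConj u v) : Concl X := by
  haveI : Fact (Nat.Prime 2) := ⟨Nat.prime_two⟩
  have hs : GW.Shape X := GW.shape h hO fun L _ hL hd => by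
    haveI := hL
    obtain ⟨P, n, hn, e⟩ := hd
    exact hGW L P n hn e
  rcases hs with hp | ⟨V, hV, hK, hC, hcard⟩ | ⟨L, hL, hLs, hLnc, hLt, hLC⟩
  · exact absurd hp hnp
  · haveI := hV
    haveI : Fact (Nat.Prime 3) := ⟨Nat.prime_three⟩
    obtain ⟨t, ht⟩ := exists_prime_orderOf_dvd_card' (G := X) 3 (by rcases hcard with e | e <;> omega)
    rcases hcard with e | e
    · exact Or.inl (FourGroup.equiv_alternating_four V hK hC.le t ht e)
    · exact Or.inr (Or.inl (FourGroup.equiv_perm_four V hK hC.le t ht e))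
  · haveI := hL
    have h8 : ¬ 8 ∣ Nat.card L := fun h8L => by
      obtain ⟨u, v, hu, hv, huv⟩ := h2 (h8L.trans (Subgroup.card_subgroup_dvd_card L))
      have hidx : ¬ 2 ∣ L.index := fun hd => h16 (by
        rw [← L.card_mul_index]; exact Nat.mul_dvd_mul h8L hd)
      have hmem : ∀ w : X, orderOf w = 2 → w ∈ L := fun w hw => by
        rw [← QuotientGroup.eq_one_iff, ← orderOf_eq_one_iff]
        exact Nat.eq_one_of_dvd_coprimes ((Nat.Prime.coprime_iff_not_dvd Nat.prime_two).2 hidx)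
          (hw ▸ orderOf_map_dvd (QuotientGroup.mk' L) w) (orderOf_dvd_natCard _)
      haveI := hLs
      obtain ⟨R, n, hn, ⟨e⟩⟩ := h.of_normal L hLs hLnc
      obtain ⟨d, -⟩ := TwoFus.exists_dih R hn e
      have hc := BSW.dih_simple_one_class hLnc R d ⟨u, hmem u hu⟩ ⟨v, hmem v hv⟩
        (by rw [Subgroup.orderOf_mk, hu]) (by rw [Subgroup.orderOf_mk, hv])
      exact huv (MonoidHom.map_isConj L.subtype hc)
    refine Or.inr (Or.inr ⟨L, hL, hLs, hLnc, hLC, ?_⟩)
    rcases hLt with ⟨F, iF, iT, hodd, h3, ⟨e⟩⟩ | ⟨⟨e⟩⟩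
    · rw [Nat.card_congr e.toEquiv] at h8
      exact ⟨F, iF, iT, h3, mod_eight_of_psl hodd h8, ⟨e⟩⟩
    · refine absurd ?_ h8
      rw [Nat.card_congr e.toEquiv, nat_card_alternatingGroup, Nat.card_eq_fintype_card, Fintype.card_fin]
      exact ⟨315, rfl⟩

end Cfsg.Agent.HalfClasses
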