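import Cfsg.Agent.Lib.HalfClasses.Fused
import Cfsg.Agent.Lib.HalfClasses.Shape
import Cfsg.Agent.Lib.TwoGroups.Lifts

/-!
Groups whose classes of 2-elements number half the order of a Sylow 2-subgroup, given the classification of simple
groups with dihedral Sylow 2-subgroups.
-/

set_option autoImplicit false
set_option linter.style.haveILetI false
set_option linter.unusedSectionVars false

namespace Cfsg.Agent.HalfClasses

open Cfsg

universe u

theorem main (hGW : GW.SimpleDihedral.{u}) {G : Type u} [Group G] [Finite G] (P : Sylow 2 G)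
    (hO : pPrimeCore 2 G = ⊥) (hk : 2 * Nat.card (TwoClasses G) = Nat.card (P : Subgroup G)) :
    Concl (G ⧸ Subgroup.center G) := by
  classical
  haveI : Fact (Nat.Prime 2) := ⟨Nat.prime_two⟩
  set Z := Subgroup.center G with hZ
  have hZ2 : IsPGroup 2 Z := center_isPGroup hO
  have hZP : Z ≤ (P : Subgroup G) := le_sylow_of_central hZ2 le_rfl P
  have hO' : pPrimeCore 2 (G ⧸ Z) = ⊥ := core_quotient_bot hO Z hZ2 le_rfl
  let π := QuotientGroup.mk' Z
  let Q : Sylow 2 (G ⧸ Z) := P.mapSurjective (QuotientGroup.mk'_surjective Z)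
  have hQ : (Q : Subgroup (G ⧸ Z)) = (P : Subgroup G).map π := rfl
  have hcard : Nat.card Z * Nat.card (Q : Subgroup (G ⧸ Z)) = Nat.card (P : Subgroup G) := by
    have h1 := Subgroup.relIndex_ker π (K := (P : Subgroup G))
    rw [show π.ker = Z from QuotientGroup.ker_mk' Z, ← hQ] at h1
    rw [← h1, ← Nat.card_congr (Subgroup.subgroupOfEquivOfLe hZP).toEquiv]
    exact Subgroup.card_mul_index _
  have hlift : ¬ IsPGroup 2 G → ¬ IsPGroup 2 (G ⧸ Z) := fun hnp h => hnp fun g => by
    obtain ⟨i, hi⟩ := h (π g)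
    rw [← map_pow] at hi
    obtain ⟨j, hj⟩ := hZ2 ⟨_, (QuotientGroup.eq_one_iff _).1 hi⟩
    exact ⟨i + j, by rw [pow_add, pow_mul]; exact congrArg Subtype.val hj⟩
  have h16 : Nat.card (Q : Subgroup (G ⧸ Z)) ≤ 8 → ¬ 16 ∣ Nat.card (G ⧸ Z) := fun hle hd => by
    have := Nat.le_of_dvd Nat.card_pos (Q.pow_dvd_card_of_pow_dvd_card (n := 4) hd)
    omega
  by_cases hab : IsMulCommutative (P : Subgroup G)
  · haveI := hab
    obtain ⟨hnp, h4⟩ := abelian_case hO P hk
    have hQ4 : Nat.card (Q : Subgroup (G ⧸ Z)) = 4 :=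
      Nat.eq_of_mul_eq_mul_left (Nat.card_pos (α := Z)) (by rw [hcard, ← h4, mul_comm])
    have hnc : ¬ IsCyclic (Q : Subgroup (G ⧸ Z)) := fun hc => hlift hnp (by
      haveI := hc
      exact (PBasic.quotient_pPrimeCore_isPGroup (HSub.hasNormalPComplement_of_cyclic Q fun r hr _ => hr.two_le)).of_equiv
        ((QuotientGroup.quotientMulEquivOfEq hO').trans QuotientGroup.quotientBot))
    haveI : IsKleinFour (Q : Subgroup (G ⧸ Z)) := by
      refine ⟨hQ4, ?_⟩
      have hd : Monoid.exponent (Q : Subgroup (G ⧸ Z)) ∣ 2 ^ 2 :=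
        Monoid.exponent_dvd_of_forall_pow_eq_one fun x => by
          rw [show (2 : ℕ) ^ 2 = Nat.card (Q : Subgroup (G ⧸ Z)) by rw [hQ4]; norm_num]
          exact pow_card_eq_one'
      obtain ⟨k, hk2, he⟩ := (Nat.dvd_prime_pow Nat.prime_two).1 hd
      interval_cases k
      · exfalso
        haveI := Monoid.exp_eq_one_iff.1 (he.trans (pow_zero 2))
        have := Nat.card_of_subsingleton (1 : (Q : Subgroup (G ⧸ Z)))
        omega
      · simpa using he
      · refine absurd ?_ hnc
        haveI : IsMulCommutative (Q : Subgroup (G ⧸ Z)) :=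
          IsPGroup.isMulCommutative_of_card_eq_prime_sq (p := 2) (by rw [hQ4]; norm_num)
        letI : CommGroup (Q : Subgroup (G ⧸ Z)) :=
          { (inferInstance : Group (Q : Subgroup (G ⧸ Z))) with mul_comm := fun a b => mul_comm' a b }
        exact IsCyclic.of_exponent_eq_card (by rw [he, hQ4]; norm_num)
    refine concl_of_dihedral hGW hO' (hlift hnp) ⟨Q, 2, le_rfl, IsKleinFour.nonempty_mulEquiv⟩ (h16 (by omega))
      fun h8 => absurd (Nat.le_of_dvd Nat.card_pos (Q.pow_dvd_card_of_pow_dvd_card (n := 3) h8)) (by omega)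
  · obtain ⟨c, d⟩ := exists_commData P hab hk
    obtain ⟨x, a, b, o⟩ := d.overCenter hO hab hk
    have hQ8 : Nat.card (Q : Subgroup (G ⧸ Z)) = 8 :=
      Nat.eq_of_mul_eq_mul_left (Nat.card_pos (α := Z)) (by rw [hcard, ← o.card, mul_comm])
    have hπ : ∀ {w : G}, w ∈ Z → π w = 1 := fun h => (QuotientGroup.eq_one_iff _).2 h
    have hcne : π c ≠ 1 := fun h => o.cne ((QuotientGroup.eq_one_iff c).1 h)
    have haa : π a * π a = π c := by
      have h := hπ o.aa
      rwa [map_mul, map_mul, map_inv, mul_inv_eq_one] at h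
    have hcc : π c * π c = 1 := by rw [← map_mul, d.sq, map_one]
    have hord : orderOf (π a) = 4 := by
      rw [show (4 : ℕ) = 2 ^ (1 + 1) from rfl]
      refine orderOf_eq_prime_pow ?_ ?_
      · rw [pow_one, pow_two, haa]; exact hcne
      · rw [show 2 ^ (1 + 1) = 2 * 2 from rfl, pow_mul, pow_two (π a), haa, pow_two, hcc]
    have hxx : π x * π x = 1 := by rw [← map_mul, o.xx, map_one]
    have hxa : π x * π a * (π x)⁻¹ = π a * π c := by rw [← map_inv, ← map_mul, ← map_mul, o.conj, map_mul]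
    have hinv : π x * π a * (π x)⁻¹ = (π a)⁻¹ := by
      rw [hxa]
      refine eq_inv_of_mul_eq_one_left ?_
      calc π a * π c * π a = π a * π a * (π a * π a) := by rw [← haa]; group
        _ = 1 := by rw [haa, hcc]
    have hxn : π x ∉ Subgroup.zpowers (π a) := fun h => by
      obtain ⟨i, hi⟩ := Subgroup.mem_zpowers_iff.1 h
      rw [← hi, (Commute.zpow_self (π a) i).eq, mul_inv_cancel_right, left_eq_mul] at hxa
      exact hcne hxa
    set H := Subgroup.closure ({π a, π x} : Set (G ⧸ Z)) with hH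
    obtain ⟨e⟩ := TwoLift.dihedral_equiv hord hxx hinv hxn hH
    have hHQ : H = (Q : Subgroup (G ⧸ Z)) := by
      refine Subgroup.eq_of_le_of_card_ge ((Subgroup.closure_le _).2 ?_) ?_
      · rintro w (rfl | rfl)
        · exact ⟨a, o.aP, rfl⟩
        · exact ⟨x, o.xP, rfl⟩
      · rw [hQ8, Nat.card_congr e.toEquiv, DihedralGroup.nat_card]
    refine concl_of_dihedral hGW hO' (hlift (d.not_pgroup hab hk))
      ⟨Q, 4, by norm_num, ⟨(MulEquiv.subgroupCongr hHQ).symm.trans e⟩⟩ (h16 hQ8.le) fun _ =>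
      ⟨π b, π c, orderOf_eq_prime (by rw [← map_pow, pow_two]; exact hπ o.bb)
        (fun h => o.bne ((QuotientGroup.eq_one_iff b).1 h)),
        orderOf_eq_prime (by rw [← map_pow, pow_two, d.sq, map_one]) hcne, fun hconj => ?_⟩
    obtain ⟨g, hg⟩ := isConj_iff.1 hconj
    obtain ⟨g, rfl⟩ := QuotientGroup.mk'_surjective Z g
    rw [← map_inv, ← map_mul, ← map_mul] at hg
    have hz : c⁻¹ * (g * b * g⁻¹) ∈ Z := QuotientGroup.eq.1 hg.symm
    refine o.fusion _ hz (isConj_iff.2 ⟨g, ?_⟩)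
    rw [← (Subgroup.mem_center_iff.1 hz c), mul_inv_cancel_left]

end Cfsg.Agent.HalfClasses
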