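import Cfsg.Agent.Lib.HalfClasses.Abelian

/-!
A non-abelian Sylow 2-subgroup: the commutator subgroup has order two and is not central in the whole group.
-/

set_option autoImplicit false
set_option linter.style.haveILetI false
set_option linter.unusedSectionVars false

namespace Cfsg.Agent.HalfClasses

open Cfsg
open scoped commutatorElement

universe u

variable {G : Type u} [Group G] [Finite G]

/-- The centre of a Sylow subgroup, inside the group. -/
def sylCenter (P : Sylow 2 G) : Subgroup G :=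
  (P : Subgroup G) ⊓ Subgroup.centralizer ((P : Subgroup G) : Set G)

theorem mem_sylCenter {P : Sylow 2 G} {z : G} :
    z ∈ sylCenter P ↔ z ∈ (P : Subgroup G) ∧ ∀ p ∈ (P : Subgroup G), p * z = z * p :=
  ⟨fun h => ⟨h.1, fun p hp => Subgroup.mem_centralizer_iff.1 h.2 p hp⟩,
    fun h => ⟨h.1, Subgroup.mem_centralizer_iff.2 h.2⟩⟩

/-- Commutator data of a Sylow subgroup of class two with commutator subgroup of order two. -/
structure CommData (P : Sylow 2 G) (c : G) : Prop where
  memP : c ∈ (P : Subgroup G)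
  sq : c * c = 1
  ne : c ≠ 1
  cent : c ∈ sylCenter P
  comm : ∀ a ∈ (P : Subgroup G), ∀ b ∈ (P : Subgroup G), a * b = b * a ∨ a * b * a⁻¹ = b * c
  ord : orderOf c = 2

theorem exists_commData (P : Sylow 2 G) (hnab : ¬ IsMulCommutative (P : Subgroup G))
    (hk : 2 * Nat.card (TwoClasses G) = Nat.card (P : Subgroup G)) : ∃ c, CommData P c := by
  haveI : Fact (Nat.Prime 2) := ⟨Nat.prime_two⟩
  set D := commutator (P : Subgroup G) with hD
  have hD1 : D ≠ ⊥ := fun h => hnab ⟨⟨fun a b => by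
    have h1 : ⁅a, b⁆ ∈ D := Subgroup.commutator_mem_commutator (Subgroup.mem_top a) (Subgroup.mem_top b)
    rw [h, Subgroup.mem_bot, commutatorElement_eq_one_iff_mul_comm] at h1
    exact h1⟩⟩
  obtain ⟨h4, -⟩ := four_mul_classes_le (P : Subgroup G)
  have hK := card_le_classes P
  have hmul := D.card_mul_index
  have hD2 : Nat.card D = 2 := by
    obtain ⟨j, hj⟩ := IsPGroup.iff_card.1 (P.isPGroup'.to_subgroup D)
    rcases j with _ | _ | j
    · exact absurd (Subgroup.eq_bot_of_card_eq _ hj) hD1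
    · exact hj
    · exfalso
      have h4D : 4 * D.index ≤ Nat.card (P : Subgroup G) := by
        rw [← hmul, hj]
        exact Nat.mul_le_mul_right _ ((Nat.pow_le_pow_right two_pos (show 2 ≤ j + 2 by omega)) : 2 ^ 2 ≤ _)
      have := Nat.card_pos (α := (P : Subgroup G))
      rw [← hD] at h4
      omega
  obtain ⟨c, hc⟩ := exists_prime_orderOf_dvd_card' (G := D) 2 (by rw [hD2])
  have hall : ∀ d ∈ D, d = 1 ∨ d = (c : (P : Subgroup G)) := by
    intro d hd
    by_contra hcon
    push Not at hcon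
    have hc1 : c ≠ 1 := fun e => by rw [e, orderOf_one] at hc; omega
    have : 2 < Nat.card D := by
      classical
      haveI : Fintype D := Fintype.ofFinite D
      rw [Nat.card_eq_fintype_card, Fintype.two_lt_card_iff]
      exact ⟨1, c, ⟨d, hd⟩, hc1.symm, fun e => hcon.1 (congrArg Subtype.val e).symm,
        fun e => hcon.2 (congrArg Subtype.val e).symm⟩
    omega
  have hco : orderOf ((c : (P : Subgroup G)) : G) = 2 := by rw [Subgroup.orderOf_coe, Subgroup.orderOf_coe, hc]
  have hcne : ((c : (P : Subgroup G)) : G) ≠ 1 := fun e => by rw [e, orderOf_one] at hco; omega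
  have hcent : ∀ p : (P : Subgroup G), p * (c : (P : Subgroup G)) = (c : (P : Subgroup G)) * p := by
    intro p
    have hn : D.Normal := inferInstance
    rcases hall _ (hn.conj_mem _ c.2 p) with e | e
    · exact absurd (congrArg Subtype.val (conj_eq_one_iff.1 e)) hcne
    · exact mul_inv_eq_iff_eq_mul.1 e
  refine ⟨((c : (P : Subgroup G)) : G), (c : (P : Subgroup G)).2, ?_, hcne, mem_sylCenter.2
    ⟨(c : (P : Subgroup G)).2, fun p hp => congrArg Subtype.val (hcent ⟨p, hp⟩)⟩, fun a ha b hb => ?_, hco⟩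
  · have h1 := pow_orderOf_eq_one ((c : (P : Subgroup G)) : G)
    rwa [hco, pow_two] at h1
  · have h1 : ⁅(⟨a, ha⟩ : (P : Subgroup G)), ⟨b, hb⟩⁆ ∈ D :=
      Subgroup.commutator_mem_commutator (Subgroup.mem_top _) (Subgroup.mem_top _)
    rcases hall _ h1 with e | e
    · exact Or.inl (congrArg Subtype.val (commutatorElement_eq_one_iff_mul_comm.1 e))
    · right
      have e' := congrArg Subtype.val e
      simp only [commutatorElement_def, Subgroup.coe_mul, Subgroup.coe_inv] at e'
      rw [mul_inv_eq_iff_eq_mul] at e'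
      rw [e']
      exact (congrArg Subtype.val (hcent ⟨b, hb⟩)).symm

variable {P : Sylow 2 G} {c : G}

theorem CommData.four_mul_center_le (d : CommData P c) (hnab : ¬ IsMulCommutative (P : Subgroup G)) :
    4 * Nat.card (sylCenter P) ≤ Nat.card (P : Subgroup G) := by
  haveI : Fact (Nat.Prime 2) := ⟨Nat.prime_two⟩
  have hZP : sylCenter P ≤ (P : Subgroup G) := inf_le_left
  set Z' := (sylCenter P).subgroupOf (P : Subgroup G) with hZ'
  have hcard : Nat.card Z' = Nat.card (sylCenter P) := Nat.card_congr (Subgroup.subgroupOfEquivOfLe hZP).toEquiv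
  obtain ⟨k, hk⟩ := IsPGroup.iff_card.1 P.isPGroup'
  obtain ⟨j, -, hj⟩ := (Nat.dvd_prime_pow Nat.prime_two).1 (hk ▸ Z'.index_dvd_card)
  rcases j with _ | _ | j
  · exfalso
    rw [pow_zero, Subgroup.index_eq_one] at hj
    exact hnab ⟨⟨fun a b => Subtype.ext ((mem_sylCenter.1 (hj ▸ Subgroup.mem_top b : b ∈ Z')).2 a a.2)⟩⟩
  · exfalso
    rw [pow_one] at hj
    refine hnab ⟨⟨fun a b => Subtype.ext ?_⟩⟩
    by_cases ha : a ∈ Z'
    · exact ((mem_sylCenter.1 ha).2 b b.2).symm
    by_cases hb : b ∈ Z'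
    · exact (mem_sylCenter.1 hb).2 a a.2
    have hab := (mem_sylCenter.1 ((Subgroup.mul_mem_iff_of_index_two hj).2 (iff_of_false ha hb) : a * b ∈ Z')).2 a a.2
    have hab' : (a : G) * ((a : G) * (b : G)) = (a : G) * (b : G) * (a : G) := hab
    rw [mul_assoc (a : G) (b : G) (a : G)] at hab'
    exact mul_left_cancel hab'
  · rw [← hcard, ← Z'.card_mul_index, hj]
    calc 4 * Nat.card Z' = Nat.card Z' * 2 ^ 2 := by ring
      _ ≤ _ := Nat.mul_le_mul_left _ (Nat.pow_le_pow_right two_pos (by omega))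

theorem CommData.not_pgroup (d : CommData P c) (hnab : ¬ IsMulCommutative (P : Subgroup G))
    (hk : 2 * Nat.card (TwoClasses G) = Nat.card (P : Subgroup G)) : ¬ IsPGroup 2 G := by
  haveI : Fact (Nat.Prime 2) := ⟨Nat.prime_two⟩
  intro hG
  have htop := eq_top_of_pgroup hG P
  have hle : commutator G ≤ Subgroup.zpowers c := by
    rw [commutator_def, Subgroup.commutator_le]
    intro a _ b _
    rw [commutatorElement_def]
    rcases d.comm a (htop ▸ Subgroup.mem_top a) b (htop ▸ Subgroup.mem_top b) with e | e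
    · rw [e, mul_inv_cancel_right, mul_inv_cancel]; exact one_mem _
    · rw [e, show b * c = c * b from (mem_sylCenter.1 d.cent).2 b (htop ▸ Subgroup.mem_top b), mul_inv_cancel_right]
      exact Subgroup.mem_zpowers c
  have hne : commutator G ≠ ⊥ := fun h => hnab ⟨⟨fun a b => Subtype.ext <| by
    have h1 : ⁅(a : G), (b : G)⁆ ∈ commutator G :=
      Subgroup.commutator_mem_commutator (Subgroup.mem_top _) (Subgroup.mem_top _)
    rw [h, Subgroup.mem_bot, commutatorElement_eq_one_iff_mul_comm] at h1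
    exact h1⟩⟩
  have h2 : Nat.card (commutator G) ≤ 2 := by
    rw [← d.ord, ← Nat.card_zpowers]
    exact Nat.le_of_dvd Nat.card_pos (Subgroup.card_dvd_of_le hle)
  have hmul := (commutator G).card_mul_index
  have hlt := (four_mul_classes_le G).2 hne
  rw [classes_of_pgroup hG] at hlt
  rw [htop, Subgroup.card_top] at hk
  have : Nat.card G ≤ 2 * (commutator G).index := hmul ▸ Nat.mul_le_mul_right _ h2
  omega

/-- The commutator involution is not central. -/
theorem CommData.not_central (d : CommData P c) (hO : pPrimeCore 2 G = ⊥)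
    (hnab : ¬ IsMulCommutative (P : Subgroup G))
    (hk : 2 * Nat.card (TwoClasses G) = Nat.card (P : Subgroup G)) : c ∉ Subgroup.center G := by
  haveI : Fact (Nat.Prime 2) := ⟨Nat.prime_two⟩
  intro hcz
  classical
  set C := Subgroup.zpowers c with hC
  haveI hCn : C.Normal := ⟨fun y hy g => by
    rwa [Subgroup.mem_center_iff.1 ((Subgroup.zpowers_le.2 hcz) hy) g, mul_inv_cancel_right]⟩
  have hC2 : IsPGroup 2 C := IsPGroup.of_card (n := 1) (by rw [hC, Nat.card_zpowers, d.ord, pow_one])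
  have hCmem : ∀ y ∈ C, y = 1 ∨ y = c := by
    intro y hy
    obtain ⟨i, hi⟩ := Subgroup.mem_zpowers_iff.1 hy
    rcases Int.even_or_odd i with ⟨m, rfl⟩ | ⟨m, rfl⟩
    · left; rw [← hi, ← two_mul, zpow_mul, show (2 : ℤ) = ((2 : ℕ) : ℤ) from rfl, zpow_natCast, pow_two, d.sq, one_zpow]
    · right
      rw [← hi, zpow_add, zpow_mul, show (2 : ℤ) = ((2 : ℕ) : ℤ) from rfl, zpow_natCast, pow_two, d.sq, one_zpow,
        one_mul, zpow_one]
  let π := QuotientGroup.mk' C
  let Q : Sylow 2 (G ⧸ C) := P.mapSurjective (QuotientGroup.mk'_surjective C)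
  have hQ : (Q : Subgroup (G ⧸ C)) = (P : Subgroup G).map π := rfl
  have hmemP : ∀ x : G, π x ∈ (Q : Subgroup (G ⧸ C)) → x ∈ (P : Subgroup G) := by
    intro x hx
    rw [hQ] at hx
    obtain ⟨y, hy, e⟩ := hx
    rcases hCmem _ (QuotientGroup.eq.1 e) with h | h
    · rwa [← inv_mul_eq_one.1 h]
    · rw [inv_mul_eq_iff_eq_mul] at h
      rw [h]; exact mul_mem hy d.memP
  haveI : IsMulCommutative (Q : Subgroup (G ⧸ C)) := ⟨⟨fun ⟨a, ha⟩ ⟨b, hb⟩ => Subtype.ext (by
    obtain ⟨x, rfl⟩ := QuotientGroup.mk'_surjective C a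
    obtain ⟨y, rfl⟩ := QuotientGroup.mk'_surjective C b
    show π x * π y = π y * π x
    rcases d.comm x (hmemP x ha) y (hmemP y hb) with e | e
    · rw [← map_mul, e, map_mul]
    · rw [← mul_inv_eq_iff_eq_mul, ← map_inv, ← map_mul, ← map_mul, e, map_mul,
        show π c = 1 from (QuotientGroup.eq_one_iff c).2 (Subgroup.mem_zpowers c), mul_one])⟩⟩
  have hO' : pPrimeCore 2 (G ⧸ C) = ⊥ := core_quotient_bot hO C hC2 (Subgroup.zpowers_le.2 hcz)
  have hnp := d.not_pgroup hnab hk
  have hN : ¬ Subgroup.normalizer ((Q : Subgroup (G ⧸ C)) : Set (G ⧸ C)) ≤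
      Subgroup.centralizer ((Q : Subgroup (G ⧸ C)) : Set (G ⧸ C)) := fun h => hnp (by
    have h1 := isPGroup_of_central hO' Q h
    intro g
    obtain ⟨i, hi⟩ := h1 (π g)
    rw [← map_pow] at hi
    rcases hCmem _ ((QuotientGroup.eq_one_iff _).1 hi) with e | e
    · exact ⟨i, e⟩
    · exact ⟨i + 1, by rw [pow_succ, pow_mul, e, pow_two, d.sq]⟩)
  obtain ⟨α, _, f, hfinj, hfQ, hf, hα⟩ := abelian_reps Q
  have hF := fixedPart_index Q hN
  have hQc : 2 * Nat.card (Q : Subgroup (G ⧸ C)) = Nat.card (P : Subgroup G) := by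
    have h1 := Subgroup.relIndex_ker π (K := (P : Subgroup G))
    rw [show π.ker = C from QuotientGroup.ker_mk' C, ← hQ] at h1
    have h2 := Subgroup.card_mul_index (C.subgroupOf (P : Subgroup G))
    rw [Nat.card_congr (Subgroup.subgroupOfEquivOfLe (Subgroup.zpowers_le.2 d.memP)).toEquiv, hC, Nat.card_zpowers,
      d.ord, ← hC] at h2
    rw [← h1]
    exact h2
  have hl : ∀ a, ∃ x, x ∈ (P : Subgroup G) ∧ π x = f a := fun a => by
    obtain ⟨x, hx, e⟩ := (hQ ▸ hfQ a : f a ∈ (P : Subgroup G).map π)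
    exact ⟨x, hx, e⟩
  choose l hlP hlπ using hl
  let β := α ⊕ {a : α // l a ∈ sylCenter P}
  let g : β → G := Sum.elim l fun a => l a.1 * c
  have hcov : ∀ x ∈ (P : Subgroup G), ∃ b, IsConj x (g b) := by
    intro x hx
    obtain ⟨a, n, hn, he⟩ := hf (π x) (hQ.symm ▸ ⟨x, hx, rfl⟩)
    obtain ⟨n, rfl⟩ := QuotientGroup.mk'_surjective C n
    have hnx : n * x * n⁻¹ ∈ (P : Subgroup G) := by
      refine hmemP _ ?_
      rw [map_mul, map_mul, map_inv, he]
      exact hfQ a
    have hxconj : IsConj x (n * x * n⁻¹) := isConj_iff.2 ⟨n, rfl⟩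
    have hmem : (l a)⁻¹ * (n * x * n⁻¹) ∈ C := QuotientGroup.eq.1 (by
      show π (l a) = π (n * x * n⁻¹)
      rw [hlπ, map_mul, map_mul, map_inv, he])
    rcases hCmem _ hmem with h | h
    · rw [inv_mul_eq_one] at h
      exact ⟨Sum.inl a, by rw [← h] at hxconj; exact hxconj⟩
    · rw [inv_mul_eq_iff_eq_mul] at h
      by_cases ha : l a ∈ sylCenter P
      · exact ⟨Sum.inr ⟨a, ha⟩, by rw [h] at hxconj; exact hxconj⟩
      · obtain ⟨s, hs, hne⟩ : ∃ s ∈ (P : Subgroup G), s * l a ≠ l a * s := by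
          by_contra hall
          push Not at hall
          exact ha (mem_sylCenter.2 ⟨hlP a, hall⟩)
        have e := (d.comm s hs (l a) (hlP a)).resolve_left hne
        exact ⟨Sum.inl a, (show IsConj x (l a * c) by rw [h] at hxconj; exact hxconj).trans (isConj_iff.2 ⟨s, e⟩ : IsConj (l a) (l a * c)).symm⟩
  have hβ : Nat.card β = Nat.card α + Nat.card {a : α // l a ∈ sylCenter P} := Nat.card_sum
  have hsub : Nat.card ({a : α // l a ∈ sylCenter P} × Bool) ≤ Nat.card (sylCenter P) := by
    refine Nat.card_le_card_of_injective (fun ab =>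
      (⟨if ab.2 then l ab.1.1 * c else l ab.1.1, by split_ifs <;> [exact mul_mem ab.1.2 d.cent; exact ab.1.2]⟩ : sylCenter P)) ?_
    rintro ⟨⟨a, ha⟩, b⟩ ⟨⟨a', ha'⟩, b'⟩ h
    have h' : (if b then l a * c else l a) = if b' then l a' * c else l a' := congrArg Subtype.val h
    have hπ := congrArg π h'
    have hπc : π c = 1 := (QuotientGroup.eq_one_iff c).2 (Subgroup.mem_zpowers c)
    have key : ∀ (t : Bool) (x : G), π (if t then x * c else x) = π x := by
      intro t x
      cases t
      · rfl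
      · show π (x * c) = π x
        rw [map_mul, hπc, mul_one]
    rw [key, key, hlπ, hlπ] at hπ
    have haa : a = a' := hfinj hπ
    subst haa
    refine Prod.ext rfl ?_
    cases b <;> cases b'
    · rfl
    · exact absurd (mul_left_cancel (((mul_one (l a)).trans h').symm)) d.ne
    · exact absurd (mul_left_cancel (h'.trans (mul_one (l a)).symm)) d.ne
    · rfl
  rw [Nat.card_prod, show Nat.card Bool = 2 by simp] at hsub
  have h1 := card_le P g hcov
  have h4 := d.four_mul_center_le hnab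
  have := Nat.card_pos (α := (P : Subgroup G))
  omega

end Cfsg.Agent.HalfClasses
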